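import Mathlib.RingTheory.Flat.Tensor
import Mathlib.RingTheory.Filtration
import Mathlib.RingTheory.AdicCompletion.Noetherian
import Mathlib.LinearAlgebra.TensorProduct.RightExactness
import Mathlib.LinearAlgebra.TensorProduct.Tower

/-!
# The local criterion of flatness
-/

set_option autoImplicit false

open TensorProduct

namespace FlatCrit

universe u v w

variable {R : Type u} [CommRing R] {S : Type v} [CommRing S] [Algebra R S]
  {M : Type w} [AddCommGroup M] [Module R M] [Module S M] [IsScalarTower R S M]

/-- `M ⊗ a` is finite over `S` when `M` is and `a` is finitely generated. -/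
theorem finite_tensor_fg [Module.Finite S M] {P : Type u} [AddCommGroup P] [Module R P]
    [Module.Finite R P] : Module.Finite S (M ⊗[R] P) := by
  obtain ⟨r, g, hg⟩ := Module.Finite.exists_fin (R := R) (M := P)
  let f : (Fin r → M) →ₗ[S] M ⊗[R] P :=
    { toFun := fun c => ∑ i, c i ⊗ₜ g i
      map_add' := fun a b => by simp [add_tmul, Finset.sum_add_distrib]
      map_smul' := fun s a => by simp [Finset.smul_sum, smul_tmul'] }
  refine Module.Finite.of_surjective f fun z => ?_
  induction z using TensorProduct.induction_on with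
  | zero => exact ⟨0, map_zero f⟩
  | add a b ha hb =>
    obtain ⟨x, hx⟩ := ha
    obtain ⟨y, hy⟩ := hb
    exact ⟨x + y, by rw [map_add, hx, hy]⟩
  | tmul m p =>
    obtain ⟨c, hc⟩ := (Submodule.mem_span_range_iff_exists_fun R).mp (hg ▸ Submodule.mem_top (x := p))
    refine ⟨fun i => c i • m, ?_⟩
    show ∑ i, (c i • m) ⊗ₜ[R] g i = m ⊗ₜ p
    rw [← hc, tmul_sum]
    exact Finset.sum_congr rfl fun i _ => smul_tmul (c i) m (g i)

/-- The kernel criterion: to prove flatness it is enough to see that every relation comes from
arbitrarily deep powers of `I`. -/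
theorem flat_of_forall_exists_lift [IsNoetherianRing R] [IsNoetherianRing S] [Module.Finite S M]
    (I : Ideal R) (hI : I.map (algebraMap R S) ≤ Ideal.jacobson ⊥)
    (h : ∀ (m : ℕ) (a : Ideal R) (t : M ⊗[R] a), LinearMap.lTensor M a.subtype t = 0 →
      ∃ u, LinearMap.lTensor M (Submodule.inclusion (inf_le_left : a ⊓ I ^ m ≤ a)) u = t) :
    Module.Flat R M := by
  refine Module.Flat.iff_lTensor_injective.mpr fun a _ => ?_
  rw [← LinearMap.ker_eq_bot, eq_bot_iff]
  intro t ht
  obtain ⟨k, hk⟩ := Ideal.exists_pow_inf_eq_pow_smul I (a : Submodule R R)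
  have : Module.Finite R a := Module.Finite.iff_fg.mpr (IsNoetherian.noetherian _)
  have : Module.Finite S (M ⊗[R] a) := finite_tensor_fg
  have hhaus := Ideal.iInf_pow_smul_eq_bot_of_le_jacobson (M := M ⊗[R] a) (I.map (algebraMap R S)) hI
  rw [Submodule.mem_bot, ← Submodule.mem_bot S, ← hhaus, Submodule.mem_iInf]
  intro n
  obtain ⟨u, rfl⟩ := h (n + k) a t (LinearMap.mem_ker.mp ht)
  clear ht
  induction u using TensorProduct.induction_on with
  | zero => rw [map_zero]; exact zero_mem _
  | add p q hp hq => rw [map_add]; exact add_mem hp hq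
  | tmul x y =>
    rw [LinearMap.lTensor_tmul]
    have hy : (y : R) ∈ (I ^ n • (a : Submodule R R) : Submodule R R) := by
      have h1 : (y : R) ∈ (I ^ (n + k) • ⊤ ⊓ a : Submodule R R) :=
        ⟨by simpa using y.2.2, y.2.1⟩
      rw [hk (n + k) (Nat.le_add_left k n), Nat.add_sub_cancel] at h1
      exact Submodule.smul_mono le_rfl inf_le_right h1
    have hy' : Submodule.inclusion (inf_le_left : a ⊓ I ^ (n + k) ≤ a) y ∈
        (I ^ n • ⊤ : Submodule R a) := by
      rw [Submodule.mem_smul_top_iff]; exact hy
    refine Submodule.smul_induction_on hy' (fun c hc b _ => ?_) (fun p q hp hq => ?_)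
    · rw [tmul_smul, ← algebraMap_smul S c (x ⊗ₜ[R] b), ← Ideal.map_pow]
      exact Submodule.smul_mem_smul (Ideal.mem_map_of_mem _ hc) Submodule.mem_top
    · rw [tmul_add]; exact add_mem hp hq

/-- If `b ⊗ M → (R/I^m) ⊗ M` is injective for every submodule `b` of every `R/I^m` then `M` is flat. -/
theorem flat_of_forall_injective_quotient [IsNoetherianRing R] [IsNoetherianRing S]
    [Module.Finite S M] (I : Ideal R) (hI : I.map (algebraMap R S) ≤ Ideal.jacobson ⊥)
    (h : ∀ (m : ℕ) (b : Submodule R (R ⧸ I ^ m)), Function.Injective (LinearMap.lTensor M b.subtype)) :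
    Module.Flat R M := by
  refine flat_of_forall_exists_lift I hI fun m a t ht => ?_
  let g : a →ₗ[R] R ⧸ I ^ m := (I ^ m : Submodule R R).mkQ.comp a.subtype
  have hq : Function.Exact (Submodule.inclusion (inf_le_left : a ⊓ I ^ m ≤ a)) g.rangeRestrict := by
    rw [LinearMap.exact_iff, LinearMap.ker_rangeRestrict, Submodule.range_inclusion]
    ext x
    simp [g, Submodule.mem_comap, x.2, Ideal.Quotient.eq_zero_iff_mem]
  refine ((lTensor_exact M hq g.surjective_rangeRestrict) t).mp ?_
  refine h m g.range ?_
  rw [map_zero, ← LinearMap.comp_apply, ← LinearMap.lTensor_comp,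
    show (LinearMap.range g).subtype.comp g.rangeRestrict = g from LinearMap.ext fun _ => rfl,
    LinearMap.lTensor_comp, LinearMap.comp_apply, ht, map_zero]

/-- Ideals containing `I ^ m` suffice. -/
theorem injective_quotient_of_injective_ideal {J : Ideal R}
    (h : ∀ K : Ideal R, J ≤ K → Function.Injective (LinearMap.lTensor M K.subtype))
    (b : Submodule R (R ⧸ J)) : Function.Injective (LinearMap.lTensor M b.subtype) := by
  let q : R →ₗ[R] R ⧸ J := (J : Submodule R R).mkQ
  let K : Ideal R := b.comap q
  let p : K →ₗ[R] b := q.restrict fun x hx => hx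
  have hJK : J ≤ K := fun x hx => by
    show q x ∈ b
    rw [show q x = 0 from (Submodule.Quotient.mk_eq_zero _).mpr hx]; exact b.zero_mem
  have hp : Function.Surjective p := fun y => by
    obtain ⟨x, hx⟩ := Submodule.mkQ_surjective (J : Submodule R R) y.1
    exact ⟨⟨x, show q x ∈ b by rw [show q x = y.1 from hx]; exact y.2⟩, Subtype.ext hx⟩
  rw [← LinearMap.ker_eq_bot, eq_bot_iff]
  intro t ht
  obtain ⟨s, rfl⟩ := LinearMap.lTensor_surjective M hp t
  have h0 : LinearMap.lTensor M q (LinearMap.lTensor M K.subtype s) = 0 := by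
    rw [← LinearMap.comp_apply, ← LinearMap.lTensor_comp,
      show q.comp K.subtype = b.subtype.comp p from LinearMap.ext fun _ => rfl,
      LinearMap.lTensor_comp, LinearMap.comp_apply]
    exact ht
  obtain ⟨j, hj⟩ := (lTensor_exact M (LinearMap.exact_subtype_mkQ (J : Submodule R R))
    (Submodule.mkQ_surjective _) _).mp h0
  have hs : s = LinearMap.lTensor M (Submodule.inclusion hJK) j := h K hJK (by
    rw [← LinearMap.comp_apply, ← LinearMap.lTensor_comp, Submodule.subtype_comp_inclusion, hj])
  rw [Submodule.mem_bot, hs, ← LinearMap.comp_apply, ← LinearMap.lTensor_comp,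
    show p.comp (Submodule.inclusion hJK) = 0 from LinearMap.ext fun x => Subtype.ext
      ((Submodule.Quotient.mk_eq_zero _).mpr x.2),
    LinearMap.lTensor_zero, LinearMap.zero_apply]

/-- Flatness of the base change to `R/J` gives injectivity on submodules of `R/J`. -/
theorem injective_quotient_of_flat {J : Ideal R} (h : Module.Flat (R ⧸ J) ((R ⧸ J) ⊗[R] M))
    (b : Submodule R (R ⧸ J)) : Function.Injective (LinearMap.lTensor M b.subtype) := by
  let b₀ : Submodule (R ⧸ J) (R ⧸ J) :=
    { b.toAddSubmonoid with
      smul_mem' := fun c x hx => by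
        obtain ⟨c, rfl⟩ := Ideal.Quotient.mk_surjective c
        rw [smul_eq_mul, ← Ideal.Quotient.algebraMap_eq, ← Algebra.smul_def]
        exact b.smul_mem c hx }
  have hinj : Function.Injective (LinearMap.rTensor M (b₀.subtype.restrictScalars R)) := by
    let e₁ := AlgebraTensorModule.cancelBaseChange R (R ⧸ J) (R ⧸ J) b₀ M
    let e₂ := AlgebraTensorModule.cancelBaseChange R (R ⧸ J) (R ⧸ J) (R ⧸ J) M
    have hcomm : ∀ z, LinearMap.rTensor M (b₀.subtype.restrictScalars R) z =
        e₂ (LinearMap.rTensor ((R ⧸ J) ⊗[R] M) b₀.subtype (e₁.symm z)) := by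
      intro z
      induction z using TensorProduct.induction_on with
      | zero => simp
      | tmul x y => simp [e₁, e₂]
      | add x y hx hy => simp only [map_add, hx, hy]
    intro z w hzw
    rw [hcomm, hcomm] at hzw
    exact e₁.symm.injective
      (Module.Flat.rTensor_preserves_injective_linearMap _ b₀.injective_subtype (e₂.injective hzw))
  rw [LinearMap.lTensor_inj_iff_rTensor_inj]
  exact hinj

/-- Flatness from flatness of all truncations. -/
theorem flat_of_flat_quotient_pow [IsNoetherianRing R] [IsNoetherianRing S] [Module.Finite S M]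
    (I : Ideal R) (hI : I.map (algebraMap R S) ≤ Ideal.jacobson ⊥)
    (h : ∀ m : ℕ, Module.Flat (R ⧸ I ^ m) ((R ⧸ I ^ m) ⊗[R] M)) : Module.Flat R M :=
  flat_of_forall_injective_quotient I hI fun m b => injective_quotient_of_flat (h m) b

/-- Dévissage: if `I ⊗ M → M` is injective and `M/IM` is flat over `R/I`, then `K ⊗ M → F ⊗ M` is
injective whenever the free module `F` has `F/K` killed by `I`. -/
theorem injective_of_smul_le {I : Ideal R} (h1 : Function.Injective (LinearMap.lTensor M I.subtype))
    (h2 : Module.Flat (R ⧸ I) ((R ⧸ I) ⊗[R] M)) {F : Type u} [AddCommGroup F] [Module R F]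
    [Module.Free R F] (K : Submodule R F) (hK : I • ⊤ ≤ K) :
    Function.Injective (LinearMap.lTensor M K.subtype) := by
  let IF : Submodule R F := I • ⊤
  -- `IF ⊗ M → F ⊗ M` is injective
  have hIF : Function.Injective (LinearMap.lTensor M IF.subtype) := by
    let g : (I : Submodule R R) ⊗[R] F →ₗ[R] F :=
      (TensorProduct.lid R F).toLinearMap ∘ₗ LinearMap.rTensor F (I : Submodule R R).subtype
    have hgr : ∀ z, g z ∈ IF := by
      intro z
      induction z using TensorProduct.induction_on with
      | zero => rw [map_zero]; exact zero_mem _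
      | tmul c f => exact Submodule.smul_mem_smul c.2 Submodule.mem_top
      | add p q hp hq => rw [map_add]; exact add_mem hp hq
    have hginj : Function.Injective g := (TensorProduct.lid R F).injective.comp
      (Module.Flat.rTensor_preserves_injective_linearMap _ (I : Submodule R R).injective_subtype)
    let g' := g.codRestrict IF hgr
    have hg'bij : Function.Bijective g' := by
      refine ⟨fun a b h => hginj (congrArg Subtype.val h), fun y => ?_⟩
      suffices ∀ z ∈ IF, ∃ a, g a = z by
        obtain ⟨a, ha⟩ := this y.1 y.2; exact ⟨a, Subtype.ext ha⟩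
      intro z hz
      refine Submodule.smul_induction_on hz (fun c hc f _ => ⟨⟨c, hc⟩ ⊗ₜ f, by simp [g]⟩)
        fun p q ⟨a, ha⟩ ⟨b, hb⟩ => ⟨a + b, by rw [map_add, ha, hb]⟩
    have hcomp : Function.Injective (LinearMap.lTensor M g) := by
      have hfac : LinearMap.lTensor M g = (LinearMap.lTensor M (TensorProduct.lid R F).toLinearMap) ∘ₗ
          LinearMap.lTensor M (LinearMap.rTensor F (I : Submodule R R).subtype) := by
        rw [← LinearMap.lTensor_comp]
      have h3 : Function.Injective
          (LinearMap.lTensor M (LinearMap.rTensor F (I : Submodule R R).subtype)) := by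
        have h4 : LinearMap.lTensor M (LinearMap.rTensor F (I : Submodule R R).subtype) =
            (TensorProduct.assoc R M R F).toLinearMap ∘ₗ
              LinearMap.rTensor F (LinearMap.lTensor M (I : Submodule R R).subtype) ∘ₗ
              (TensorProduct.assoc R M (I : Submodule R R) F).symm.toLinearMap := by
          refine LinearMap.ext fun z => ?_
          induction z using TensorProduct.induction_on with
          | zero => simp
          | add p q hp hq => rw [map_add, map_add, hp, hq]
          | tmul x w =>
            induction w using TensorProduct.induction_on with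
            | zero => simp
            | add p q hp hq => rw [tmul_add, map_add, map_add, hp, hq]
            | tmul c f => simp
        rw [h4]
        exact (TensorProduct.assoc R M R F).injective.comp
          ((Module.Flat.rTensor_preserves_injective_linearMap _ h1).comp
            (TensorProduct.assoc R M (I : Submodule R R) F).symm.injective)
      rw [hfac]
      exact (LinearEquiv.lTensor M (TensorProduct.lid R F)).injective.comp h3
    intro a b hab
    obtain ⟨a', rfl⟩ := LinearMap.lTensor_surjective M hg'bij.2 a
    obtain ⟨b', rfl⟩ := LinearMap.lTensor_surjective M hg'bij.2 b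
    rw [← LinearMap.comp_apply, ← LinearMap.comp_apply, ← LinearMap.lTensor_comp] at hab
    rw [hcomp hab]
  -- modulo `IF` use flatness over `R/I`
  let Fb := F ⧸ IF
  let Kb : Submodule R Fb := K.map IF.mkQ
  have hKb : Function.Injective (LinearMap.lTensor M Kb.subtype) := by
    let Kb₀ : Submodule (R ⧸ I) Fb :=
      { Kb.toAddSubmonoid with
        smul_mem' := fun c x hx => by
          obtain ⟨c, rfl⟩ := Ideal.Quotient.mk_surjective c
          rw [← Ideal.Quotient.algebraMap_eq, algebraMap_smul]
          exact Kb.smul_mem c hx }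
    have hinj : Function.Injective (LinearMap.rTensor M (Kb₀.subtype.restrictScalars R)) := by
      let e₁ := AlgebraTensorModule.cancelBaseChange R (R ⧸ I) (R ⧸ I) Kb₀ M
      let e₂ := AlgebraTensorModule.cancelBaseChange R (R ⧸ I) (R ⧸ I) Fb M
      have hcomm : ∀ z, LinearMap.rTensor M (Kb₀.subtype.restrictScalars R) z =
          e₂ (LinearMap.rTensor ((R ⧸ I) ⊗[R] M) Kb₀.subtype (e₁.symm z)) := by
        intro z
        induction z using TensorProduct.induction_on with
        | zero => simp
        | tmul x y => simp [e₁, e₂]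
        | add x y hx hy => simp only [map_add, hx, hy]
      intro z w hzw
      rw [hcomm, hcomm] at hzw
      exact e₁.symm.injective
        (Module.Flat.rTensor_preserves_injective_linearMap _ Kb₀.injective_subtype (e₂.injective hzw))
    rw [LinearMap.lTensor_inj_iff_rTensor_inj]
    exact hinj
  let p : K →ₗ[R] Kb := IF.mkQ.restrict fun x hx => Submodule.mem_map_of_mem hx
  have hp : Function.Surjective p := fun ⟨y, hy⟩ => by
    obtain ⟨x, hx, rfl⟩ := hy
    exact ⟨⟨x, hx⟩, rfl⟩
  have hex : Function.Exact (Submodule.inclusion hK) p := by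
    rw [LinearMap.exact_iff, Submodule.range_inclusion]
    ext x
    simp [p, IF, Subtype.ext_iff, LinearMap.restrict_apply, Submodule.Quotient.mk_eq_zero]
  rw [← LinearMap.ker_eq_bot, eq_bot_iff]
  intro t ht
  have h0 : LinearMap.lTensor M p t = 0 := hKb (by
    rw [map_zero, ← LinearMap.comp_apply, ← LinearMap.lTensor_comp,
      show Kb.subtype.comp p = IF.mkQ.comp K.subtype from LinearMap.ext fun _ => rfl,
      LinearMap.lTensor_comp, LinearMap.comp_apply, LinearMap.mem_ker.mp ht, map_zero])
  obtain ⟨u, rfl⟩ := (lTensor_exact M hex hp t).mp h0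
  rw [LinearMap.mem_ker, ← LinearMap.comp_apply, ← LinearMap.lTensor_comp,
    Submodule.subtype_comp_inclusion] at ht
  rw [Submodule.mem_bot, hIF (ht.trans (map_zero _).symm), map_zero]

/-- Dévissage along powers of `I`. -/
theorem injective_of_pow_smul_le {I : Ideal R} (h1 : Function.Injective (LinearMap.lTensor M I.subtype))
    (h2 : Module.Flat (R ⧸ I) ((R ⧸ I) ⊗[R] M)) (n : ℕ) :
    ∀ {F : Type u} [AddCommGroup F] [Module R F] [Module.Free R F] (K : Submodule R F),
      I ^ n • ⊤ ≤ K → Function.Injective (LinearMap.lTensor M K.subtype) := by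
  induction n with
  | zero =>
    intro F _ _ _ K hK
    have hKt : K = ⊤ := by rwa [pow_zero, Ideal.one_eq_top, Submodule.top_smul, top_le_iff] at hK
    subst hKt
    exact (LinearEquiv.lTensor M (Submodule.topEquiv : (⊤ : Submodule R F) ≃ₗ[R] F)).injective
  | succ n ih =>
    intro F _ _ _ K hK
    let K' : Submodule R F := K ⊔ I • ⊤
    let G := K' →₀ R
    let π : G →ₗ[R] K' := Finsupp.linearCombination R id
    have hπ : Function.Surjective π := fun k => ⟨Finsupp.single k 1, by
      show Finsupp.linearCombination R id (Finsupp.single k 1) = k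
      rw [Finsupp.linearCombination_single]; exact one_smul R k⟩
    let K'' : Submodule R G := K.comap (K'.subtype.comp π)
    have hsmul : I ^ n • ⊤ ≤ K'' := by
      refine Submodule.smul_le.mpr fun c hc x _ => ?_
      show K'.subtype (π (c • x)) ∈ K
      rw [map_smul, map_smul]
      obtain ⟨k, hk, i, hi, hki⟩ := Submodule.mem_sup.mp (π x).2
      show c • ((π x : K') : F) ∈ K
      rw [← hki, smul_add]
      refine K.add_mem (K.smul_mem c hk) (hK ?_)
      rw [pow_succ, mul_smul]
      exact Submodule.smul_mem_smul hc hi
    have hK'' := ih K'' hsmul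
    have hK' := injective_of_smul_le h1 h2 K' le_sup_right
    rw [← LinearMap.ker_eq_bot, eq_bot_iff]
    intro t ht
    let incl : K →ₗ[R] K' := Submodule.inclusion le_sup_left
    have ht' : LinearMap.lTensor M incl t = 0 := hK' (by
      rw [map_zero, ← LinearMap.comp_apply, ← LinearMap.lTensor_comp,
        show K'.subtype.comp incl = K.subtype from LinearMap.ext fun _ => rfl]
      exact ht)
    let π' : K'' →ₗ[R] K := (K'.subtype.comp π).restrict fun x hx => hx
    have hπ' : Function.Surjective π' := fun k => by
      obtain ⟨g, hg⟩ := hπ ⟨k.1, (le_sup_left : K ≤ K') k.2⟩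
      refine ⟨⟨g, ?_⟩, Subtype.ext (show K'.subtype (π g) = (k : F) by rw [hg]; rfl)⟩
      show K'.subtype (π g) ∈ K
      rw [hg]; exact k.2
    obtain ⟨t'', rfl⟩ := LinearMap.lTensor_surjective M hπ' t
    have h0 : LinearMap.lTensor M π (LinearMap.lTensor M K''.subtype t'') = 0 := by
      rw [← LinearMap.comp_apply, ← LinearMap.lTensor_comp,
        show π.comp K''.subtype = incl.comp π' from LinearMap.ext fun x => Subtype.ext rfl,
        LinearMap.lTensor_comp, LinearMap.comp_apply]
      exact ht'
    have hexk : Function.Exact (LinearMap.ker π).subtype π := LinearMap.exact_subtype_ker_map π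
    obtain ⟨l, hl⟩ := (lTensor_exact M (M := (LinearMap.ker π : Submodule R G)) (f := (LinearMap.ker π).subtype) hexk hπ
      (LinearMap.lTensor M K''.subtype t'')).mp h0
    have hker : LinearMap.ker π ≤ K'' := fun x hx => by
      show K'.subtype (π x) ∈ K
      rw [LinearMap.mem_ker.mp hx, map_zero]; exact K.zero_mem
    have ht'' : t'' = LinearMap.lTensor M (Submodule.inclusion hker) l := hK'' (by
      rw [← hl, ← LinearMap.comp_apply, ← LinearMap.lTensor_comp, Submodule.subtype_comp_inclusion])
    rw [Submodule.mem_bot, ht'', ← LinearMap.comp_apply, ← LinearMap.lTensor_comp,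
      show π'.comp (Submodule.inclusion hker) = 0 from LinearMap.ext fun x => Subtype.ext (by
        show K'.subtype (π x.1) = 0
        rw [LinearMap.mem_ker.mp x.2, map_zero]),
      LinearMap.lTensor_zero, LinearMap.zero_apply]

/-- The local criterion of flatness. -/
theorem flat_of_injective_of_flat_quotient [IsNoetherianRing R] [IsNoetherianRing S]
    [Module.Finite S M] (I : Ideal R) (hI : I.map (algebraMap R S) ≤ Ideal.jacobson ⊥)
    (h1 : Function.Injective (LinearMap.lTensor M I.subtype))
    (h2 : Module.Flat (R ⧸ I) ((R ⧸ I) ⊗[R] M)) : Module.Flat R M :=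
  flat_of_forall_injective_quotient I hI fun m b => injective_quotient_of_injective_ideal
    (fun K hK => injective_of_pow_smul_le h1 h2 m K (by simpa using hK)) b

end FlatCrit
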