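import Groth.Agent.FlatCrit.Basic
import Mathlib.RingTheory.RingHom.Flat
import Mathlib.LinearAlgebra.TensorProduct.Quotient
import Mathlib.RingTheory.Flat.Stability

/-!
# Flatness modulo an ideal
-/

set_option autoImplicit false

open TensorProduct

namespace FlatCrit

universe u v

variable {R : Type u} [CommRing R] {S : Type v} [CommRing S] [Algebra R S]

theorem flat_tensor_quotient_iff (a : Ideal R) :
    Module.Flat (R ⧸ a) ((R ⧸ a) ⊗[R] S) ↔
      (Ideal.quotientMap (a.map (algebraMap R S)) (algebraMap R S) Ideal.le_comap_map).Flat := by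
  letI : Algebra (R ⧸ a) (S ⧸ a.map (algebraMap R S)) :=
    (Ideal.quotientMap (a.map (algebraMap R S)) (algebraMap R S) Ideal.le_comap_map).toAlgebra
  let e : (R ⧸ a) ⊗[R] S ≃ₗ[R] S ⧸ a.map (algebraMap R S) :=
    TensorProduct.quotTensorEquivQuotSMul S a ≪≫ₗ
      Submodule.quotEquivOfEq _ ((a.map (algebraMap R S)).restrictScalars R)
        (Ideal.smul_top_eq_map a) ≪≫ₗ
      Submodule.Quotient.restrictScalarsEquiv R (a.map (algebraMap R S))
  haveI : IsScalarTower R (R ⧸ a) (S ⧸ a.map (algebraMap R S)) :=
    IsScalarTower.of_algebraMap_eq fun x => rfl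
  let e' : (R ⧸ a) ⊗[R] S ≃ₗ[R ⧸ a] S ⧸ a.map (algebraMap R S) :=
    { e with
      map_smul' := fun c x => by
        obtain ⟨c, rfl⟩ := Ideal.Quotient.mk_surjective c
        rw [← Ideal.Quotient.algebraMap_eq, RingHom.id_apply, algebraMap_smul, algebraMap_smul]
        exact e.map_smul c x }
  exact Module.Flat.equiv_iff e'

/-- A flat ring map induces flat maps modulo ideals. -/
theorem flat_quotientMap (a : Ideal R) [Module.Flat R S] :
    (Ideal.quotientMap (a.map (algebraMap R S)) (algebraMap R S) Ideal.le_comap_map).Flat :=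
  (flat_tensor_quotient_iff a).mp inferInstance

/-- Ring-hom form of the flatness criterion by truncations. -/
theorem flat_of_flat_quotientMap [IsNoetherianRing R] [IsNoetherianRing S] (I : Ideal R)
    (hI : I.map (algebraMap R S) ≤ Ideal.jacobson ⊥)
    (h : ∀ m : ℕ, (Ideal.quotientMap ((I ^ m).map (algebraMap R S)) (algebraMap R S)
      Ideal.le_comap_map).Flat) : Module.Flat R S :=
  flat_of_flat_quotient_pow (S := S) I hI fun m => (flat_tensor_quotient_iff _).mpr (h m)

end FlatCrit

namespace FlatCrit

universe u v w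

/-- An extension of flat modules is flat. -/
theorem flat_of_extension {A : Type u} [CommRing A] {M' M M'' : Type w} [AddCommGroup M'] [Module A M']
    [AddCommGroup M] [Module A M] [AddCommGroup M''] [Module A M''] (f : M' →ₗ[A] M)
    (g : M →ₗ[A] M'') (hf : Function.Injective f) (hfg : Function.Exact f g)
    (hg : Function.Surjective g) [Module.Flat A M'] [Module.Flat A M''] : Module.Flat A M := by
  refine Module.Flat.iff_lTensor_injective.mpr fun a _ => ?_
  rw [← LinearMap.ker_eq_bot, eq_bot_iff]
  intro t ht
  have h0 : LinearMap.rTensor a g t = 0 := by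
    refine Module.Flat.lTensor_preserves_injective_linearMap (M := M'') a.subtype a.injective_subtype ?_
    rw [map_zero, ← LinearMap.comp_apply, LinearMap.lTensor_comp_rTensor,
      ← LinearMap.rTensor_comp_lTensor, LinearMap.comp_apply, LinearMap.mem_ker.mp ht, map_zero]
  obtain ⟨u, rfl⟩ := (rTensor_exact (a : Type u) hfg hg t).mp h0
  have hu : LinearMap.lTensor M' a.subtype u = 0 := by
    refine Module.Flat.rTensor_preserves_injective_linearMap (M := A) f hf ?_
    rw [map_zero, ← LinearMap.comp_apply, LinearMap.rTensor_comp_lTensor,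
      ← LinearMap.lTensor_comp_rTensor, LinearMap.comp_apply]
    exact LinearMap.mem_ker.mp ht
  rw [Submodule.mem_bot, Module.Flat.lTensor_preserves_injective_linearMap (M := M') a.subtype
    a.injective_subtype (hu.trans (map_zero _).symm), map_zero]

/-- A finite module over a noetherian algebra is flat as soon as its truncations along an ideal
contained in the Jacobson radical are. -/
theorem flat_of_forall_flat_quotient {A : Type u} [CommRing A] {B : Type v} [CommRing B] [Algebra A B]
    [IsNoetherianRing B] {M : Type w} [AddCommGroup M] [Module B M] [Module A M] [IsScalarTower A B M]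
    [Module.Finite B M] (J : Ideal B) (hJ : J ≤ Ideal.jacobson ⊥)
    (h : ∀ n : ℕ, Module.Flat A (M ⧸ (J ^ n • (⊤ : Submodule B M)))) : Module.Flat A M := by
  refine Module.Flat.iff_lTensor_injective.mpr fun a ha => ?_
  rw [← LinearMap.ker_eq_bot, eq_bot_iff]
  intro t ht
  have : Module.Finite A a := Module.Finite.iff_fg.mpr ha
  have : Module.Finite B (TensorProduct A M a) := finite_tensor_fg
  have hhaus := Ideal.iInf_pow_smul_eq_bot_of_le_jacobson (M := TensorProduct A M a) J hJ
  rw [Submodule.mem_bot, ← Submodule.mem_bot B, ← hhaus, Submodule.mem_iInf]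
  intro n
  let N : Submodule B M := J ^ n • ⊤
  let q : M →ₗ[A] M ⧸ N := N.mkQ.restrictScalars A
  have hq0 : LinearMap.rTensor a q t = 0 := by
    refine Module.Flat.lTensor_preserves_injective_linearMap (M := M ⧸ N) a.subtype
      a.injective_subtype ?_
    rw [map_zero, ← LinearMap.comp_apply, LinearMap.lTensor_comp_rTensor,
      ← LinearMap.rTensor_comp_lTensor, LinearMap.comp_apply, LinearMap.mem_ker.mp ht, map_zero]
  have hex : Function.Exact ((N.restrictScalars A).subtype) q := by
    rw [LinearMap.exact_iff, Submodule.range_subtype]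
    ext x
    simp [q]
  obtain ⟨u, rfl⟩ := (rTensor_exact (a : Type u) hex (Submodule.mkQ_surjective N) t).mp hq0
  clear ht hq0
  induction u using TensorProduct.induction_on with
  | zero => rw [map_zero]; exact zero_mem _
  | add p q hp hq => rw [map_add]; exact add_mem hp hq
  | tmul x y =>
    show (x : M) ⊗ₜ[A] y ∈ _
    generalize hz : (x : M) = z
    have hzN : z ∈ N := hz ▸ x.2
    clear hz x
    refine Submodule.smul_induction_on hzN (fun c hc m _ => ?_) (fun p q hp hq => ?_)
    · rw [← TensorProduct.smul_tmul']
      exact Submodule.smul_mem_smul hc Submodule.mem_top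
    · rw [TensorProduct.add_tmul]; exact add_mem hp hq

/-- If `π` is regular on `A` and on `M` and `M/πM` is flat over `A/π`, then `π` is regular on
`M ⊗ a` for every ideal `a`. -/
theorem smul_tensor_ideal_injective {A : Type u} [CommRing A] {π : A} (hπ : π ∈ nonZeroDivisors A)
    {M : Type w} [AddCommGroup M] [Module A M]
    (h1 : Function.Injective (LinearMap.lTensor M (Ideal.span {π} : Ideal A).subtype))
    (h2 : Module.Flat (A ⧸ Ideal.span {π}) ((A ⧸ Ideal.span {π}) ⊗[A] M)) (a : Ideal A)
    (t : M ⊗[A] a) (ht : π • t = 0) : t = 0 := by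
  let F := a →₀ A
  let p : F →ₗ[A] a := Finsupp.linearCombination A id
  have hp : Function.Surjective p := fun y => ⟨Finsupp.single y 1, by
    show Finsupp.linearCombination A id (Finsupp.single y 1) = y
    rw [Finsupp.linearCombination_single]; exact one_smul A y⟩
  let K : Submodule A F := LinearMap.ker p ⊔ Ideal.span {π} • ⊤
  have hK := injective_of_smul_le h1 h2 K le_sup_right
  have hdiv : ∀ x : K, ∃! y : a, π • y = p (x : F) := by
    intro x
    obtain ⟨l, hl, i, hi, hli⟩ := Submodule.mem_sup.mp x.2
    rw [Submodule.ideal_span_singleton_smul] at hi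
    obtain ⟨j, -, rfl⟩ := hi
    refine ⟨p j, ?_, fun y hy => ?_⟩
    · show π • p j = p (x : F)
      rw [← hli, map_add, LinearMap.mem_ker.mp hl, zero_add, DistribSMul.toLinearMap_apply, map_smul]
    · rw [← hli, map_add, LinearMap.mem_ker.mp hl, zero_add, DistribSMul.toLinearMap_apply, map_smul] at hy
      refine Subtype.ext ((mem_nonZeroDivisors_iff_right.mp hπ |> fun hreg => ?_))
      refine sub_eq_zero.mp (hreg _ ?_)
      have := congrArg Subtype.val hy
      simp only [Submodule.coe_smul_of_tower, smul_eq_mul] at this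
      rw [sub_mul, mul_comm, this, mul_comm]; exact sub_self _
  let δ : K →ₗ[A] a :=
    { toFun := fun x => (hdiv x).choose
      map_add' := fun x y => (hdiv (x + y)).unique (hdiv (x + y)).choose_spec.1 (by
        rw [smul_add, (hdiv x).choose_spec.1, (hdiv y).choose_spec.1]
        exact (map_add p (x : F) (y : F)).symm)
      map_smul' := fun c x => (hdiv (c • x)).unique (hdiv (c • x)).choose_spec.1 (by
        rw [RingHom.id_apply, smul_comm, (hdiv x).choose_spec.1]
        exact (map_smul p c (x : F)).symm) }
  let ψ : F →ₗ[A] K := LinearMap.codRestrict K (π • (LinearMap.id : F →ₗ[A] F)) fun x =>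
    Submodule.mem_sup_right (Submodule.smul_mem_smul (Ideal.mem_span_singleton_self π) Submodule.mem_top)
  have hψ : δ.comp ψ = p := LinearMap.ext fun x => (hdiv (ψ x)).unique (hdiv (ψ x)).choose_spec.1 (by
    show π • p x = p (π • x)
    rw [map_smul])
  have hδ : δ.comp (Submodule.inclusion (le_sup_left : LinearMap.ker p ≤ K)) = 0 :=
    LinearMap.ext fun x => (hdiv _).unique (hdiv _).choose_spec.1 (by
      rw [LinearMap.zero_apply, smul_zero]
      exact (LinearMap.mem_ker.mp x.2).symm)
  obtain ⟨s, rfl⟩ := LinearMap.lTensor_surjective M hp t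
  rw [← map_smul] at ht
  have hexk : Function.Exact (LinearMap.ker p).subtype p := LinearMap.exact_subtype_ker_map p
  obtain ⟨l, hl⟩ := (lTensor_exact M (M := (LinearMap.ker p : Submodule A F))
    (f := (LinearMap.ker p).subtype) hexk hp _).mp ht
  have hψs : LinearMap.lTensor M ψ s =
      LinearMap.lTensor M (Submodule.inclusion (le_sup_left : LinearMap.ker p ≤ K)) l := hK (by
    rw [← LinearMap.comp_apply, ← LinearMap.comp_apply, ← LinearMap.lTensor_comp, ← LinearMap.lTensor_comp,
      Submodule.subtype_comp_inclusion, hl, LinearMap.subtype_comp_codRestrict, LinearMap.lTensor_smul,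
      LinearMap.lTensor_id]
    rfl)
  rw [← hψ, LinearMap.lTensor_comp, LinearMap.comp_apply, hψs, ← LinearMap.comp_apply,
    ← LinearMap.lTensor_comp, hδ, LinearMap.lTensor_zero, LinearMap.zero_apply]

end FlatCrit
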