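import Mathlib
import Groth.Agent.HenselLib.FiniteLocalProd

/-!
# The local rings of a finite extension of a noetherian local ring induce the adic topology
-/

set_option autoImplicit false

universe u

open IsLocalRing

namespace FlatCrit

/-- Membership in a power of a maximal ideal is tested in the local ring. -/
theorem mem_pow_of_mem_map_atPrime {B : Type u} [CommRing B] (n : Ideal B) [n.IsMaximal] (k : ℕ) {a : B}
    (ha : algebraMap B (Localization.AtPrime n) a ∈ maximalIdeal (Localization.AtPrime n) ^ k) : a ∈ n ^ k := by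
  rw [← Localization.AtPrime.map_eq_maximalIdeal, ← Ideal.map_pow,
    IsLocalization.algebraMap_mem_map_algebraMap_iff n.primeCompl] at ha
  obtain ⟨s, hs, hsa⟩ := ha
  obtain ⟨t, c, hc, htc⟩ := Ideal.IsMaximal.exists_inv inferInstance hs
  obtain ⟨d, hd⟩ := sub_dvd_pow_sub_pow (1 : B) c k
  have h1 : 1 - c = t * s := by rw [← htc]; ring
  rw [one_pow, h1] at hd
  have h2 : a = t * d * (s * a) + c ^ k * a := by
    calc a = (1 - c ^ k) * a + c ^ k * a := by ring
      _ = t * s * d * a + c ^ k * a := by rw [hd]
      _ = _ := by ring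
  rw [h2]
  exact add_mem (Ideal.mul_mem_left _ _ hsa) (Ideal.mul_mem_right _ _ (Ideal.pow_mem_pow hc k))

variable {A B : Type u} [CommRing A] [IsLocalRing A] [IsNoetherianRing A] [CommRing B] [Algebra A B]
  [Module.Finite A B]

/-- The powers of the maximal ideals of a finite extension cut out arbitrarily small ideals. -/
theorem exists_iInf_comap_pow_le (hinj : Function.Injective (algebraMap A B)) (N : ℕ) :
    ∃ k : ℕ, ⨅ n : MaximalSpectrum B, Ideal.comap (algebraMap A (Localization.AtPrime n.asIdeal))
      (maximalIdeal (Localization.AtPrime n.asIdeal) ^ k) ≤ maximalIdeal A ^ N := by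
  classical
  haveI := HenselLib.finite_maximalSpectrum (B := B) A
  haveI := Fintype.ofFinite (MaximalSpectrum B)
  let mB := (maximalIdeal A).map (algebraMap A B)
  let P := ∏ n : MaximalSpectrum B, n.asIdeal
  have hP : P ≤ mB.radical := by
    rw [← Ideal.sInf_minimalPrimes]
    refine le_sInf fun q hq => ?_
    haveI : q.IsPrime := hq.1.1
    have hmax : q.IsMaximal := Ideal.isMaximal_of_isIntegral_of_isMaximal_comap q (by
      have : q.comap (algebraMap A B) = maximalIdeal A := le_antisymm
        (le_maximalIdeal (Ideal.IsPrime.comap _).ne_top) (Ideal.map_le_iff_le_comap.mp hq.1.2)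
      exact this ▸ maximalIdeal.isMaximal A)
    exact Ideal.prod_le_inf.trans (Finset.inf_le (Finset.mem_univ (⟨q, hmax⟩ : MaximalSpectrum B)))
  haveI : IsNoetherianRing B := isNoetherian_of_tower A (isNoetherian_of_isNoetherianRing_of_finite A B)
  obtain ⟨e, he⟩ := Ideal.exists_pow_le_of_le_radical_of_fg hP (IsNoetherian.noetherian P)
  obtain ⟨c, hc⟩ := (maximalIdeal A).exists_pow_inf_eq_pow_smul (LinearMap.range (Algebra.linearMap A B))
  refine ⟨e * (N + c), fun a ha => ?_⟩
  rw [Ideal.mem_iInf] at ha
  have h1 : algebraMap A B a ∈ mB ^ (N + c) := by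
    refine (Ideal.pow_right_mono he (N + c)) ?_
    rw [← pow_mul, ← Finset.prod_pow]
    rw [Ideal.prod_eq_iInf_of_pairwise_isCoprime fun i _ j _ hij => IsCoprime.pow (Ideal.isCoprime_iff_sup_eq.mpr
      (i.isMaximal.coprime_of_ne j.isMaximal fun h => hij (MaximalSpectrum.ext h)))]
    refine Ideal.mem_iInf.mpr fun n => Ideal.mem_iInf.mpr fun _ => ?_
    refine mem_pow_of_mem_map_atPrime n.asIdeal _ ?_
    have := ha n
    rw [Ideal.mem_comap, IsScalarTower.algebraMap_apply A B] at this
    exact this
  have h2 : algebraMap A B a ∈ (maximalIdeal A ^ (N + c) • ⊤ : Submodule A B) ⊓ LinearMap.range (Algebra.linearMap A B) := by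
    refine ⟨?_, ⟨a, rfl⟩⟩
    rw [Ideal.smul_top_eq_map, Ideal.map_pow]
    exact h1
  rw [hc (N + c) (Nat.le_add_left c N), Nat.add_sub_cancel] at h2
  have h3 : algebraMap A B a ∈ Submodule.map (Algebra.linearMap A B) (maximalIdeal A ^ N • (⊤ : Submodule A A)) := by
    rw [Submodule.map_smul'', Submodule.map_top]
    exact Submodule.smul_mono le_rfl inf_le_right h2
  obtain ⟨b, hb, hba⟩ := h3
  rw [← hinj hba]
  simpa using hb

end FlatCrit
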