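import Mathlib
import Groth.Agent.FlatCrit.Basic

/-!
# Flatness tested on a finite injective family, modulo powers of an ideal
-/

set_option autoImplicit false

universe u

open TensorProduct

namespace FlatCrit

variable {A : Type u} [CommRing A] {M : Type u} [AddCommGroup M] [Module A M]

/-- Injective maps of modules killed by `J` stay injective on tensoring with `M` when `M/JM` is flat. -/
theorem rTensor_injective_of_torsion {J : Ideal A} (h : Module.Flat (A ⧸ J) ((A ⧸ J) ⊗[A] M)) {N Q : Type u}
    [AddCommGroup N] [Module A N] [AddCommGroup Q] [Module A Q] (hN : Module.IsTorsionBySet A N (J : Set A))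
    (hQ : Module.IsTorsionBySet A Q (J : Set A)) (f : N →ₗ[A] Q) (hf : Function.Injective f) :
    Function.Injective (f.rTensor M) := by
  letI : Module (A ⧸ J) N := hN.module
  haveI : IsScalarTower A (A ⧸ J) N := hN.isScalarTower
  letI : Module (A ⧸ J) Q := hQ.module
  haveI : IsScalarTower A (A ⧸ J) Q := hQ.isScalarTower
  let f' : N →ₗ[A ⧸ J] Q :=
    { f with
      map_smul' := fun c x => by
        obtain ⟨c, rfl⟩ := Ideal.Quotient.mk_surjective c
        exact f.map_smul c x }
  let e₁ := AlgebraTensorModule.cancelBaseChange A (A ⧸ J) (A ⧸ J) N M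
  let e₂ := AlgebraTensorModule.cancelBaseChange A (A ⧸ J) (A ⧸ J) Q M
  have hcomm : ∀ z, f.rTensor M z = e₂ (f'.rTensor ((A ⧸ J) ⊗[A] M) (e₁.symm z)) := fun z => by
    induction z using TensorProduct.induction_on with
    | zero => simp
    | tmul x y => simp [e₁, e₂, f']
    | add x y hx hy => simp only [map_add, hx, hy]
  intro z w hzw
  rw [hcomm, hcomm] at hzw
  exact e₁.symm.injective (Module.Flat.rTensor_preserves_injective_linearMap f' hf (e₂.injective hzw))

/-- An ideal of an algebra over which the base change of `M` is flat. -/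
theorem rTensor_ideal_injective {B : Type u} [CommRing B] [Algebra A B] (h : Module.Flat B (B ⊗[A] M))
    (I : Ideal B) : Function.Injective ((I.subtype.restrictScalars A).rTensor M) := by
  let e₁ := AlgebraTensorModule.cancelBaseChange A B B I M
  let e₂ := AlgebraTensorModule.cancelBaseChange A B B B M
  have hcomm : ∀ z, (I.subtype.restrictScalars A).rTensor M z =
      e₂ (I.subtype.rTensor (B ⊗[A] M) (e₁.symm z)) := fun z => by
    induction z using TensorProduct.induction_on with
    | zero => simp
    | tmul x y => simp [e₁, e₂]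
    | add x y hx hy => simp only [map_add, hx, hy]
  intro z w hzw
  rw [hcomm, hcomm] at hzw
  exact e₁.symm.injective
    (Module.Flat.rTensor_preserves_injective_linearMap _ I.injective_subtype (e₂.injective hzw))

/-- An element killed in the quotient comes from the submodule. -/
theorem exists_rTensor_subtype_eq {P : Type u} [AddCommGroup P] [Module A P] (P' : Submodule A P) {z : P ⊗[A] M}
    (h : P'.mkQ.rTensor M z = 0) : ∃ t, P'.subtype.rTensor M t = z :=
  (rTensor_exact M (LinearMap.exact_subtype_mkQ P') P'.mkQ_surjective z).mp h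

variable {ι : Type u} (B : ι → Type u) [∀ i, CommRing (B i)] [∀ i, Algebra A (B i)] (J : Ideal A)

/-- The filtration of the product by powers of the ideal. -/
def powFilt (k : ℕ) : Submodule A (∀ i, B i) :=
  Submodule.pi Set.univ fun i => ((J.map (algebraMap A (B i))) ^ k).restrictScalars A

variable {B J}

theorem rTensor_powFilt_injective [Finite ι] (hflat : ∀ i, Module.Flat (B i) (B i ⊗[A] M)) (k : ℕ) :
    Function.Injective ((powFilt B J k).subtype.rTensor M) := by
  classical
  cases nonempty_fintype ι
  let I : ∀ i, Ideal (B i) := fun i => (J.map (algebraMap A (B i))) ^ k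
  let π : ∀ i, powFilt B J k →ₗ[A] I i := fun i =>
    { toFun := fun x => ⟨x.1 i, x.2 i trivial⟩
      map_add' := fun _ _ => rfl
      map_smul' := fun _ _ => rfl }
  let σ : ∀ i, I i →ₗ[A] powFilt B J k := fun i =>
    LinearMap.codRestrict (powFilt B J k) ((LinearMap.single A B i).comp ((I i).subtype.restrictScalars A))
      fun x j _ => by
        show Pi.single i (x : B i) j ∈ (J.map (algebraMap A (B j))) ^ k
        rcases eq_or_ne j i with rfl | hne
        · rw [Pi.single_eq_same]; exact x.2
        · rw [Pi.single_eq_of_ne hne]; exact zero_mem _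
  have hid : ∑ i, (σ i).comp (π i) = LinearMap.id := by
    refine LinearMap.ext fun x => Subtype.ext ?_
    simp only [LinearMap.coe_sum, Finset.sum_apply, LinearMap.comp_apply, LinearMap.id_apply,
      AddSubmonoidClass.coe_finset_sum]
    exact Finset.univ_sum_single x.1
  rw [injective_iff_map_eq_zero]
  intro z hz
  have hπ : ∀ i, (π i).rTensor M z = 0 := fun i => by
    refine rTensor_ideal_injective (hflat i) (I i) ?_
    rw [map_zero, ← LinearMap.comp_apply, ← LinearMap.rTensor_comp,
      show ((I i).subtype.restrictScalars A).comp (π i) = (LinearMap.proj i).comp (powFilt B J k).subtype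
        from LinearMap.ext fun _ => rfl,
      LinearMap.rTensor_comp, LinearMap.comp_apply, hz, map_zero]
  have h := LinearMap.congr_fun (congrArg (LinearMap.rTensor M) hid) z
  rw [LinearMap.rTensor_id, LinearMap.id_apply] at h
  rw [← h, show LinearMap.rTensor M (∑ i, (σ i).comp (π i)) = ∑ i, LinearMap.rTensor M ((σ i).comp (π i)) from
    map_sum (LinearMap.rTensorHom M) _ _, LinearMap.sum_apply]
  exact Finset.sum_eq_zero fun i _ => by rw [LinearMap.rTensor_comp, LinearMap.comp_apply, hπ, map_zero]

theorem smul_mem_powFilt_succ {r : A} (hr : r ∈ J) {k : ℕ} {x : ∀ i, B i} (hx : x ∈ powFilt B J k) :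
    r • x ∈ powFilt B J (k + 1) := fun i hi => by
  show r • x i ∈ (J.map (algebraMap A (B i))) ^ (k + 1)
  rw [Algebra.smul_def, pow_succ']
  exact Ideal.mul_mem_mul (Ideal.mem_map_of_mem _ hr) (hx i hi)

theorem powFilt_zero : powFilt B J 0 = ⊤ := eq_top_iff.mpr fun x _ i _ => by
  show x i ∈ (J.map (algebraMap A (B i))) ^ 0
  rw [pow_zero, Ideal.one_eq_top]
  trivial

theorem powFilt_eq_bot {L : ℕ} (hL : ∀ i, (J ^ L).map (algebraMap A (B i)) = ⊥) : powFilt B J L = ⊥ :=
  eq_bot_iff.mpr fun x hx => by
    refine funext fun i => ?_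
    have h : x i ∈ (J.map (algebraMap A (B i))) ^ L := hx i trivial
    rwa [← Ideal.map_pow, hL i] at h

/-- Submodules of the product stay inside after tensoring with `M`. -/
theorem rTensor_injective_of_le_powFilt [Finite ι] (h0 : Module.Flat (A ⧸ J) ((A ⧸ J) ⊗[A] M))
    (hflat : ∀ i, Module.Flat (B i) (B i ⊗[A] M)) {L : ℕ} (hL : ∀ i, (J ^ L).map (algebraMap A (B i)) = ⊥) :
    ∀ (d k : ℕ), k + d = L → ∀ N : Submodule A (∀ i, B i), N ≤ powFilt B J k →
      Function.Injective (N.subtype.rTensor M) := by
  intro d
  induction d with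
  | zero =>
    intro k hk N hN
    rw [add_zero] at hk
    subst hk
    rw [powFilt_eq_bot hL] at hN
    haveI : Subsingleton N := ⟨fun a b => Subtype.ext ((Submodule.mem_bot A).mp (hN a.2) |>.trans
      ((Submodule.mem_bot A).mp (hN b.2)).symm)⟩
    exact Function.injective_of_subsingleton _
  | succ d ih =>
    intro k hk N hN
    let F := powFilt B J k
    let F' : Submodule A F := (powFilt B J (k + 1)).comap F.subtype
    let N' : Submodule A N := (powFilt B J (k + 1)).comap N.subtype
    let j : N →ₗ[A] F := Submodule.inclusion hN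
    let f : N ⧸ N' →ₗ[A] F ⧸ F' := N'.mapQ F' j fun x hx => hx
    have hf : Function.Injective f := by
      rw [injective_iff_map_eq_zero]
      intro x hx
      obtain ⟨x, rfl⟩ := Submodule.mkQ_surjective _ x
      exact (Submodule.Quotient.mk_eq_zero _).mpr
        (show j x ∈ F' from (Submodule.Quotient.mk_eq_zero _).mp hx)
    have htN : Module.IsTorsionBySet A (N ⧸ N') (J : Set A) := fun x r => by
      obtain ⟨x, rfl⟩ := Submodule.mkQ_surjective _ x
      rw [← map_smul]
      exact (Submodule.Quotient.mk_eq_zero _).mpr (smul_mem_powFilt_succ r.2 (hN x.2))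
    have htF : Module.IsTorsionBySet A (F ⧸ F') (J : Set A) := fun x r => by
      obtain ⟨x, rfl⟩ := Submodule.mkQ_surjective _ x
      rw [← map_smul]
      exact (Submodule.Quotient.mk_eq_zero _).mpr (smul_mem_powFilt_succ r.2 x.2)
    rw [injective_iff_map_eq_zero]
    intro z hz
    have hjz : j.rTensor M z = 0 := by
      refine rTensor_powFilt_injective hflat k ?_
      rw [map_zero, ← LinearMap.comp_apply, ← LinearMap.rTensor_comp]
      exact hz
    have hqz : N'.mkQ.rTensor M z = 0 := by
      refine rTensor_injective_of_torsion h0 htN htF f hf ?_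
      rw [map_zero, ← LinearMap.comp_apply, ← LinearMap.rTensor_comp,
        show f.comp N'.mkQ = F'.mkQ.comp j from LinearMap.ext fun _ => rfl,
        LinearMap.rTensor_comp, LinearMap.comp_apply, hjz, map_zero]
    obtain ⟨t, rfl⟩ := exists_rTensor_subtype_eq N' hqz
    let N₂ : Submodule A (∀ i, B i) := N'.map N.subtype
    let e : N' ≃ₗ[A] N₂ := Submodule.equivMapOfInjective N.subtype N.injective_subtype N'
    have h2 : Function.Injective ((N.subtype.comp N'.subtype).rTensor M) := by
      rw [show N.subtype.comp N'.subtype = N₂.subtype.comp e.toLinearMap from LinearMap.ext fun _ => rfl,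
        LinearMap.rTensor_comp]
      exact (ih (k + 1) (by omega) N₂ (by rintro _ ⟨x, hx, rfl⟩; exact hx)).comp (e.rTensor M).injective
    rw [← LinearMap.comp_apply, ← LinearMap.rTensor_comp] at hz
    rw [show t = 0 from h2 (hz.trans (map_zero _).symm), map_zero]

/-- Flatness modulo an ideal `K`, read on submodules, from a finite family injective modulo `K` over
which `M` is flat, `M/JM` being flat and a power of `J` lying in `K`. -/
theorem injective_quotient_of_injective_pi [Finite ι] (K : Ideal A) (h0 : Module.Flat (A ⧸ J) ((A ⧸ J) ⊗[A] M))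
    (hflat : ∀ i, Module.Flat (B i) (B i ⊗[A] M)) (hK : ∀ a : A, a ∈ K ↔ ∀ i, algebraMap A (B i) a = 0)
    {L : ℕ} (hL : J ^ L ≤ K) (b : Submodule A (A ⧸ K)) : Function.Injective (b.subtype.rTensor M) := by
  let g : (A ⧸ K) →ₗ[A] (∀ i, B i) :=
    Submodule.liftQ K (LinearMap.pi fun i => Algebra.linearMap A (B i)) fun a ha => funext ((hK a).mp ha)
  have hg : Function.Injective g := by
    rw [injective_iff_map_eq_zero]
    intro x hx
    obtain ⟨a, rfl⟩ := Submodule.mkQ_surjective _ x
    exact (Submodule.Quotient.mk_eq_zero _).mpr ((hK a).mpr fun i => congrFun hx i)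
  have hL' : ∀ i, (J ^ L).map (algebraMap A (B i)) = ⊥ := fun i =>
    eq_bot_iff.mpr (Ideal.map_le_iff_le_comap.mpr fun a ha => (hK a).mp (hL ha) i)
  let N : Submodule A (∀ i, B i) := b.map g
  let e : b ≃ₗ[A] N := Submodule.equivMapOfInjective g hg b
  have h : Function.Injective ((g.comp b.subtype).rTensor M) := by
    rw [show g.comp b.subtype = N.subtype.comp e.toLinearMap from LinearMap.ext fun _ => rfl, LinearMap.rTensor_comp]
    exact (rTensor_injective_of_le_powFilt h0 hflat hL' L 0 (zero_add L) N
      ((powFilt_zero (B := B) (J := J)).symm ▸ le_top)).comp (e.rTensor M).injective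
  rw [LinearMap.rTensor_comp, LinearMap.coe_comp] at h
  exact h.of_comp

/-- Flatness of an ideally separated module from injectivity modulo arbitrarily small ideals. -/
theorem flat_of_hausdorff [IsNoetherianRing A] (hsep : ∀ a : Ideal A, IsHausdorff J (a ⊗[A] M))
    (h : ∀ n : ℕ, ∃ K : Ideal A, K ≤ J ^ n ∧
      ∀ b : Submodule A (A ⧸ K), Function.Injective (b.subtype.rTensor M)) : Module.Flat A M := by
  refine Module.Flat.iff_rTensor_injective'.mpr fun a => ?_
  rw [injective_iff_map_eq_zero]
  intro z hz
  obtain ⟨c, hc⟩ := J.exists_pow_inf_eq_pow_smul (M := A) (a : Submodule A A)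
  refine (hsep a).haus z fun n => ?_
  rw [SModEq.zero]
  obtain ⟨K, hKn, hK⟩ := h (n + c)
  let q : A →ₗ[A] A ⧸ K := Submodule.mkQ K
  let b : Submodule A (A ⧸ K) := Submodule.map q a
  let p : a →ₗ[A] b := (q.comp a.subtype).codRestrict b fun x => ⟨x.1, x.2, rfl⟩
  have hp : Function.Surjective p := by
    rintro ⟨_, x, hx, rfl⟩
    exact ⟨⟨x, hx⟩, rfl⟩
  have hpz : p.rTensor M z = 0 := by
    refine hK b ?_
    rw [map_zero, ← LinearMap.comp_apply, ← LinearMap.rTensor_comp,
      show b.subtype.comp p = q.comp a.subtype from LinearMap.ext fun _ => rfl,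
      LinearMap.rTensor_comp, LinearMap.comp_apply, hz, map_zero]
  obtain ⟨t, rfl⟩ := (rTensor_exact M (LinearMap.exact_subtype_ker_map p) hp _).mp hpz
  have hker : ∀ x : a, x ∈ LinearMap.ker p → x ∈ J ^ n • (⊤ : Submodule A a) := fun x hx => by
    have hxK : (x : A) ∈ K := (Submodule.Quotient.mk_eq_zero K).mp (congrArg Subtype.val (LinearMap.mem_ker.mp hx))
    have h1 : (x : A) ∈ J ^ (n + c) • (⊤ : Submodule A A) ⊓ a :=
      ⟨by rw [Ideal.smul_top_eq_map, Algebra.algebraMap_self, Ideal.map_id]; exact hKn hxK, x.2⟩
    rw [hc (n + c) (Nat.le_add_left c n), Nat.add_sub_cancel] at h1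
    have h2 : (x : A) ∈ Submodule.map a.subtype (J ^ n • (⊤ : Submodule A a)) := by
      rw [Submodule.map_smul'', Submodule.map_top, Submodule.range_subtype]
      exact Submodule.smul_mono le_rfl inf_le_right h1
    obtain ⟨y, hy, hyx⟩ := h2
    rwa [show y = x from Subtype.ext hyx] at hy
  clear hpz hz
  induction t using TensorProduct.induction_on with
  | zero => simp
  | add x y hx hy => rw [map_add]; exact add_mem hx hy
  | tmul x m =>
    rw [LinearMap.rTensor_tmul]
    have h1 : ((TensorProduct.mk A a M).flip m) (LinearMap.ker p |>.subtype x) ∈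
        Submodule.map ((TensorProduct.mk A a M).flip m) (J ^ n • (⊤ : Submodule A a)) :=
      Submodule.mem_map_of_mem (hker _ x.2)
    rw [Submodule.map_smul''] at h1
    exact Submodule.smul_mono le_rfl le_top h1

end FlatCrit
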