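import Mathlib
import Groth.Agent.RichLib.ModFlatLimit

/-!
# Flatness of a module at a point under base change to an affine scheme over an arbitrary base
-/

set_option autoImplicit false

universe u

open AlgebraicGeometry CategoryTheory CategoryTheory.Limits

namespace FlatCrit

/-- A morphism into the target with image in an open, and the comparison of the two fibre products. -/
theorem exists_restrict {X Y T : Scheme.{u}} (f : X ⟶ Y) (M : X.Modules) (U : Y.Opens) (t : T ⟶ Y)
    (tU : T ⟶ U.toScheme) (htU : tU ≫ U.ι = t) :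
    ∃ j : pullback (f ∣_ U) tU ≅ pullback f t,
      j.hom ≫ pullback.fst f t = pullback.fst (f ∣_ U) tU ≫ (f ⁻¹ᵁ U).ι ∧
      j.hom ≫ pullback.snd f t = pullback.snd (f ∣_ U) tU ∧
      ∀ z : ↥(pullback (f ∣_ U) tU),
        FlatMod.IsFlatOverAt (pullback.snd (f ∣_ U) tU)
            ((Scheme.Modules.pullback (pullback.fst (f ∣_ U) tU)).obj
              ((Scheme.Modules.pullback (f ⁻¹ᵁ U).ι).obj M)) z ↔
          FlatMod.IsFlatOverAt (pullback.snd f t) ((Scheme.Modules.pullback (pullback.fst f t)).obj M) (j.hom z) := by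
  have sq : IsPullback (pullback.fst (f ∣_ U) tU ≫ (f ⁻¹ᵁ U).ι) (pullback.snd (f ∣_ U) tU) f t := by
    rw [← htU]
    exact (IsPullback.of_hasPullback (f ∣_ U) tU).paste_horiz (isPullback_morphismRestrict f U).flip
  refine ⟨sq.isoPullback, sq.isoPullback_hom_fst, sq.isoPullback_hom_snd, fun z => ?_⟩
  exact RichLib.ModFlat.isFlatOverAt_congr sq.isoPullback.hom (𝟙 T) (by simp)
    (((Scheme.Modules.pullbackComp (pullback.fst (f ∣_ U) tU) (f ⁻¹ᵁ U).ι).app M) ≪≫
      (Scheme.Modules.pullbackCongr sq.isoPullback_hom_fst.symm).app M ≪≫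
      ((Scheme.Modules.pullbackComp sq.isoPullback.hom (pullback.fst f t)).app M).symm) z

/-- Flatness at a point of a fibre product passes to a further affine base change. -/
theorem isFlatOverAt_baseChange_affine {X Y T T' : Scheme.{u}} [IsAffine T] [IsAffine T'] (f : X ⟶ Y)
    [LocallyOfFinitePresentation f] (M : X.Modules) [Coh.IsQCoh M] (hM : CohB1.IsFP M) {U : Y.Opens}
    (hU : IsAffineOpen U) (t : T ⟶ Y) (ht : Set.range t ⊆ U) (h : T' ⟶ T) (t' : T' ⟶ Y) (ht' : h ≫ t = t')
    (x' : ↥(pullback f t'))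
    (hx : ∀ z : ↥(pullback f t), pullback.fst f t z = pullback.fst f t' x' →
      pullback.snd f t z = h (pullback.snd f t' x') →
      FlatMod.IsFlatOverAt (pullback.snd f t) ((Scheme.Modules.pullback (pullback.fst f t)).obj M) z) :
    FlatMod.IsFlatOverAt (pullback.snd f t') ((Scheme.Modules.pullback (pullback.fst f t')).obj M) x' := by
  haveI : IsAffine U.toScheme := hU
  let tU : T ⟶ U.toScheme := IsOpenImmersion.lift U.ι t (by rwa [Scheme.Opens.range_ι])
  have htU : tU ≫ U.ι = t := IsOpenImmersion.lift_fac _ _ _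
  let tU' : T' ⟶ U.toScheme := h ≫ tU
  have htU' : tU' ≫ U.ι = t' := by rw [Category.assoc, htU, ht']
  obtain ⟨j, hjf, hjs, hj⟩ := exists_restrict f M U t tU htU
  obtain ⟨j', hjf', hjs', hj'⟩ := exists_restrict f M U t' tU' htU'
  obtain ⟨z, rfl⟩ := j'.hom.surjective x'
  refine (hj' z).mp ?_
  haveI : IsAffineHom tU := isAffineHom_of_isAffine tU
  haveI : IsAffineHom tU' := isAffineHom_of_isAffine tU'
  haveI : Coh.IsQCoh ((Scheme.Modules.pullback (f ⁻¹ᵁ U).ι).obj M) := KFlatLib.isQCoh_pullback (f ⁻¹ᵁ U).ι M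
  let m : pullback (f ∣_ U) tU' ⟶ pullback (f ∣_ U) tU :=
    pullback.lift (pullback.fst _ _) (pullback.snd _ _ ≫ h) (by rw [Category.assoc]; exact pullback.condition)
  refine RichLib.ModFlat.isFlatOverAt_baseChange (f ∣_ U) _ (RichLib.ModFlat.isFP_pullback _ hM) tU h tU' rfl m
    (pullback.lift_fst _ _ _) (pullback.lift_snd _ _ _) z ((hj (m z)).mpr (hx _ ?_ ?_))
  · rw [← Scheme.Hom.comp_apply, ← Scheme.Hom.comp_apply, ← Scheme.Hom.comp_apply, hjf, hjf',
      pullback.lift_fst_assoc]
  · rw [← Scheme.Hom.comp_apply, ← Scheme.Hom.comp_apply, ← Scheme.Hom.comp_apply, ← Scheme.Hom.comp_apply,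
      hjs, reassoc_of% hjs', pullback.lift_snd]

/-- Flatness of a module at a point passes to an affine base change. -/
theorem isFlatOverAt_pullback_affine {X Y T : Scheme.{u}} [IsAffine T] (f : X ⟶ Y)
    [LocallyOfFinitePresentation f] (M : X.Modules) [Coh.IsQCoh M] (hM : CohB1.IsFP M) {U : Y.Opens}
    (hU : IsAffineOpen U) (t : T ⟶ Y) (ht : Set.range t ⊆ U) (x' : ↥(pullback f t))
    (hx : FlatMod.IsFlatOverAt f M (pullback.fst f t x')) :
    FlatMod.IsFlatOverAt (pullback.snd f t) ((Scheme.Modules.pullback (pullback.fst f t)).obj M) x' := by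
  haveI : IsAffine U.toScheme := hU
  let tU : T ⟶ U.toScheme := IsOpenImmersion.lift U.ι t (by rwa [Scheme.Opens.range_ι])
  have htU : tU ≫ U.ι = t := IsOpenImmersion.lift_fac _ _ _
  refine isFlatOverAt_baseChange_affine f M hM hU U.ι (Scheme.Opens.range_ι U).le tU t htU x' fun z hzf _ => ?_
  have sq : IsPullback (pullback.fst f U.ι) (pullback.snd f U.ι) f U.ι := IsPullback.of_hasPullback _ _
  haveI : IsOpenImmersion (pullback.fst f U.ι) := inferInstance
  refine (RichLib.ModFlat.isFlatOverAt_congr (pullback.fst f U.ι) U.ι sq.w.symm (Iso.refl _) z).mpr ?_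
  rwa [hzf]

end FlatCrit
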