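import Mathlib
import Groth.Agent.FlatCrit.InjFamily

/-!
# Flatness tested at finitely many primes, on symbolic powers
-/

set_option autoImplicit false

universe u

open TensorProduct

namespace FlatCrit

variable {A : Type u} [CommRing A] {M : Type u} [AddCommGroup M] [Module A M]

/-- Base change of a flat localization to a quotient of the local ring. -/
theorem flat_quot_atPrime (p : Ideal A) [p.IsPrime] (I : Ideal (Localization.AtPrime p))
    (h : Module.Flat (Localization.AtPrime p) (LocalizedModule p.primeCompl M)) :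
    Module.Flat (Localization.AtPrime p ⧸ I) ((Localization.AtPrime p ⧸ I) ⊗[A] M) := by
  have hbc : IsBaseChange (Localization.AtPrime p) (LocalizedModule.mkLinearMap p.primeCompl M) :=
    IsLocalizedModule.isBaseChange p.primeCompl (Localization.AtPrime p) _
  haveI : Module.Flat (Localization.AtPrime p) (Localization.AtPrime p ⊗[A] M) :=
    Module.Flat.of_linearEquiv hbc.equiv
  exact Module.Flat.of_linearEquiv (AlgebraTensorModule.cancelBaseChange A (Localization.AtPrime p)
    (Localization.AtPrime p ⧸ I) (Localization.AtPrime p ⧸ I) M).symm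

/-- Flatness from finitely many primes whose symbolic powers are cofinal in the adic topology. -/
theorem flat_of_symbolicPowers [IsNoetherianRing A] (J : Ideal A) (hsep : ∀ a : Ideal A, IsHausdorff J (a ⊗[A] M))
    {ι : Type u} [Finite ι] (p : ι → Ideal A) [∀ i, (p i).IsPrime] (hp : ∀ i, J ≤ p i)
    (htop : ∀ n : ℕ, ∃ m : ℕ, ⨅ i, Ideal.comap (algebraMap A (Localization.AtPrime (p i)))
      (IsLocalRing.maximalIdeal (Localization.AtPrime (p i)) ^ m) ≤ J ^ n)
    (h0 : Module.Flat (A ⧸ J) ((A ⧸ J) ⊗[A] M))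
    (hflat : ∀ i, Module.Flat (Localization.AtPrime (p i)) (LocalizedModule (p i).primeCompl M)) :
    Module.Flat A M := by
  refine flat_of_hausdorff hsep fun n => ?_
  obtain ⟨m, hm⟩ := htop n
  refine ⟨_, hm, fun b => ?_⟩
  refine injective_quotient_of_injective_pi
    (B := fun i => Localization.AtPrime (p i) ⧸ (IsLocalRing.maximalIdeal (Localization.AtPrime (p i)) ^ m))
    (J := J) _ h0 (fun i => flat_quot_atPrime (p i) _ (hflat i)) (fun a => ?_) (L := m) ?_ b
  · simp only [Ideal.mem_iInf, Ideal.mem_comap]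
    exact forall_congr' fun i => Ideal.Quotient.eq_zero_iff_mem.symm
  · refine le_iInf fun i => Ideal.map_le_iff_le_comap.mp ?_
    rw [Ideal.map_pow]
    exact Ideal.pow_right_mono (by
      rw [← Localization.AtPrime.map_eq_maximalIdeal]
      exact Ideal.map_mono (hp i)) m

/-- With flat graded pieces, the powers of the ideal are cut out at the associated primes of the quotient. -/
theorem mem_pow_of_mem_map_associatedPrimes [IsNoetherianRing A] (J : Ideal A)
    (hgr : ∀ k : ℕ, Module.Flat (A ⧸ J) ((A ⧸ J) ⊗[A] ↥(J ^ k))) {n : ℕ} {a : A}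
    (ha : ∀ q ∈ associatedPrimes A (A ⧸ J), ∃ s ∉ q, s * a ∈ J ^ n) : a ∈ J ^ n := by
  suffices h : ∀ k ≤ n, a ∈ J ^ k from h n le_rfl
  intro k hk
  induction k with
  | zero => simp
  | succ k ih =>
    have hak := ih (Nat.le_of_succ_le hk)
    let I₀ : Ideal A := Submodule.comap (LinearMap.mulRight A a) (J ^ (k + 1))
    have hI : ∀ s, s ∈ I₀ ↔ s * a ∈ J ^ (k + 1) := fun _ => Iff.rfl
    obtain ⟨s, hsI, hs⟩ : ∃ s ∈ I₀, IsSMulRegular (A ⧸ J) s := by
      by_contra hcon
      push Not at hcon
      have hsub : (I₀ : Set A) ⊆ ⋃ q ∈ associatedPrimes A (A ⧸ J), id q := fun s hs => by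
        change s ∈ ⋃ q ∈ associatedPrimes A (A ⧸ J), (q : Set A)
        rw [biUnion_associatedPrimes_eq_zero_divisors A (A ⧸ J)]
        have := hcon s hs
        rw [isSMulRegular_iff_right_eq_zero_of_smul] at this
        push Not at this
        obtain ⟨x, hx, hx0⟩ := this
        exact ⟨x, hx0, hx⟩
      obtain ⟨q, hq, hle⟩ := (Ideal.subset_union_prime_finite (associatedPrimes.finite A (A ⧸ J)) (f := id) ⊥ ⊥
        fun _ h _ _ => IsAssociatedPrime.isPrime h).mp hsub
      obtain ⟨s, hsq, hs⟩ := ha q hq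
      exact hsq (hle ((hI s).mpr (Ideal.pow_le_pow_right hk hs)))
    haveI := hgr k
    have hsN : IsSMulRegular ((A ⧸ J) ⊗[A] ↥(J ^ k)) (Ideal.Quotient.mk J s) := by
      have h1 : IsSMulRegular (A ⧸ J) (Ideal.Quotient.mk J s) := hs
      have h2 := IsSMulRegular.rTensor ((A ⧸ J) ⊗[A] ↥(J ^ k)) h1
      intro x y hxy
      exact (TensorProduct.lid (A ⧸ J) _).symm.injective (h2 (by
        show Ideal.Quotient.mk J s • _ = Ideal.Quotient.mk J s • _
        rw [← map_smul, ← map_smul]
        exact congrArg _ hxy))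
    have hsa : s • (⟨a, hak⟩ : ↥(J ^ k)) ∈ J • (⊤ : Submodule A ↥(J ^ k)) := by
      rw [Submodule.mem_smul_top_iff]
      show s * a ∈ J • (J ^ k : Submodule A A)
      rw [smul_eq_mul, ← pow_succ']
      exact hsI
    have h0 : (1 : A ⧸ J) ⊗ₜ[A] (⟨a, hak⟩ : ↥(J ^ k)) = 0 := by
      refine hsN.right_eq_zero_of_smul ?_
      rw [TensorProduct.smul_tmul', smul_eq_mul, mul_one,
        show Ideal.Quotient.mk J s = s • (1 : A ⧸ J) from (Algebra.algebraMap_eq_smul_one s),
        TensorProduct.smul_tmul]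
      refine (quotTensorEquivQuotSMul (↥(J ^ k)) J).injective ?_
      rw [map_zero, quotTensorEquivQuotSMul_mk_one_tmul, Submodule.Quotient.mk_eq_zero]
      exact hsa
    have h1 := congrArg (quotTensorEquivQuotSMul (↥(J ^ k)) J) h0
    rw [map_zero, quotTensorEquivQuotSMul_mk_one_tmul, Submodule.Quotient.mk_eq_zero, Submodule.mem_smul_top_iff] at h1
    rw [pow_succ']
    exact h1

/-- Flatness from the associated primes of the quotient when the graded pieces are flat. -/
theorem flat_of_gr_flat [IsNoetherianRing A] (J : Ideal A) (hsep : ∀ a : Ideal A, IsHausdorff J (a ⊗[A] M))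
    (hgr : ∀ k : ℕ, Module.Flat (A ⧸ J) ((A ⧸ J) ⊗[A] ↥(J ^ k)))
    (h0 : Module.Flat (A ⧸ J) ((A ⧸ J) ⊗[A] M))
    (hflat : ∀ q : associatedPrimes A (A ⧸ J), haveI : q.1.IsPrime := IsAssociatedPrime.isPrime q.2
      Module.Flat (Localization.AtPrime q.1) (LocalizedModule q.1.primeCompl M)) :
    Module.Flat A M := by
  haveI : Finite (associatedPrimes A (A ⧸ J)) := (associatedPrimes.finite A (A ⧸ J)).to_subtype
  haveI : ∀ q : associatedPrimes A (A ⧸ J), q.1.IsPrime := fun q => IsAssociatedPrime.isPrime q.2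
  refine flat_of_hausdorff hsep fun n => ⟨J ^ n, le_rfl, fun b => ?_⟩
  refine injective_quotient_of_injective_pi
    (B := fun q : associatedPrimes A (A ⧸ J) =>
      Localization.AtPrime q.1 ⧸ (J ^ n).map (algebraMap A (Localization.AtPrime q.1)))
    (J := J) _ h0 (fun q => flat_quot_atPrime q.1 _ (hflat q)) (fun a => ?_) (L := n) le_rfl b
  constructor
  · exact fun ha q => Ideal.Quotient.eq_zero_iff_mem.mpr (Ideal.mem_map_of_mem _ ha)
  · intro ha
    refine mem_pow_of_mem_map_associatedPrimes J hgr fun q hq => ?_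
    haveI : q.IsPrime := IsAssociatedPrime.isPrime hq
    obtain ⟨s, hs, hsa⟩ := (IsLocalization.algebraMap_mem_map_algebraMap_iff q.primeCompl _ _ _).mp
      (Ideal.Quotient.eq_zero_iff_mem.mp (ha ⟨q, hq⟩))
    exact ⟨s, hs, hsa⟩

end FlatCrit
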